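import Groth.Agent.CMBlow.Main
import Groth.Agent.SerreReg.Regular
import Groth.Agent.RegMor2.Basic
import Groth.Agent.BlowUpLib.Basic
import Groth.Agent.S8855
import Groth.Agent.S1682
import Mathlib

/-!
Blow-ups of regular schemes in regular centres are regular.
-/

set_option autoImplicit false
set_option linter.style.haveILetI false
set_option maxSynthPendingDepth 4
set_option backward.isDefEq.respectTransparency false
universe u

open CategoryTheory AlgebraicGeometry Limits TopologicalSpace MvPolynomial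

namespace Groth.Agent.RegBlow

open BlowUpExist KoszBlow
open Wiebe (Acyclic)

theorem regular_of_openImmersion {X Y : Scheme.{u}} (f : X ⟶ Y) [IsOpenImmersion f] (x : X)
    (h : IsRegularLocalRing (X.presheaf.stalk x)) : IsRegularLocalRing (Y.presheaf.stalk (f x)) :=
  haveI := h
  IsRegularLocalRing.of_ringEquiv (asIso (f.stalkMap x)).symm.commRingCatIsoToRingEquiv

theorem regular_of_openImmersion' {X Y : Scheme.{u}} (f : X ⟶ Y) [IsOpenImmersion f] (x : X)
    (h : IsRegularLocalRing (Y.presheaf.stalk (f x))) : IsRegularLocalRing (X.presheaf.stalk x) :=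
  haveI := h
  IsRegularLocalRing.of_ringEquiv (asIso (f.stalkMap x)).commRingCatIsoToRingEquiv

theorem isRegularRing_sections {X : Scheme.{u}} [IsLocallyNoetherian X]
    (hreg : ∀ x : X, IsRegularLocalRing (X.presheaf.stalk x)) (U : X.affineOpens) :
    IsRegularRing Γ(X, U.1) := by
  haveI := IsLocallyNoetherian.component_noetherian (X := X) U
  refine isRegularRing_iff.mpr fun p hp => ?_
  haveI := regular_of_openImmersion' U.2.fromSpec ⟨p, hp⟩ (hreg _)
  exact IsRegularLocalRing.of_ringEquiv (Spec.stalkIso Γ(X, U.1) ⟨p, hp⟩).commRingCatIsoToRingEquiv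

variable {A : Type u} [CommRing A] [IsNoetherianRing A] {I : Ideal A} [IsRegularRing (A ⧸ I)]

theorem regular_chart {n : ℕ} (a : Fin (n + 1) → A) (hI : I = Ideal.span (Set.range a)) (ha : Acyclic a)
    (q : Ideal (HomogeneousLocalization.Away (Rees.deg (reesAlgebra I)) (tt I (a 0) (mem_ideal a hI 0))))
    [q.IsPrime] (hq : fromA I (a 0) (mem_ideal a hI 0) (a 0) ∈ q) :
    IsRegularLocalRing (Localization.AtPrime q) := by
  let P := MvPolynomial (Fin n) A
  let B := HomogeneousLocalization.Away (Rees.deg (reesAlgebra I)) (tt I (a 0) (mem_ideal a hI 0))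
  let M : Ideal P := q.comap (pres a hI)
  have hsurj : Function.Surjective (pres a hI) := pres_surjective a hI
  haveI : IsNoetherianRing B := isNoetherianRing_of_surjective P B _ hsurj
  haveI : IsNoetherianRing (Localization.AtPrime q) := IsLocalization.isNoetherianRing q.primeCompl _ inferInstance
  let f : Localization.AtPrime q := algebraMap B _ (fromA I (a 0) (mem_ideal a hI 0) (a 0))
  let φ : P →+* MvPolynomial (Fin n) (A ⧸ I) := MvPolynomial.map (Ideal.Quotient.mk I)
  have hφ : Function.Surjective φ := MvPolynomial.map_surjective _ Ideal.Quotient.mk_surjective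
  have hkφ : RingHom.ker φ = I.map C := by rw [MvPolynomial.ker_map, Ideal.mk_ker]
  have hsum : RingHom.ker (pres a hI) ⊔ Ideal.span {C (a 0)} = I.map C := by
    rw [ker_pres a hI ha, ← Ideal.span_union]
    apply le_antisymm
    · refine Ideal.span_le.2 ?_
      rintro _ (⟨i, rfl⟩ | rfl)
      · exact Ideal.sub_mem _ (Ideal.mul_mem_right _ _ (Ideal.mem_map_of_mem _ (mem_ideal a hI 0)))
          (Ideal.mem_map_of_mem _ (mem_ideal a hI _))
      · exact Ideal.mem_map_of_mem _ (mem_ideal a hI 0)
    · have hle : Ideal.span (Set.range (C ∘ a)) ≤ Ideal.span (Set.range (eqn a) ∪ {C (a 0)}) := by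
        refine Ideal.span_le.2 ?_
        rintro _ ⟨i, rfl⟩
        refine Fin.cases (Ideal.subset_span (Or.inr rfl)) (fun j => ?_) i
        have : C (a j.succ) = C (a 0) * X j - eqn a j := by simp [eqn]
        rw [Function.comp_apply, this]
        exact Ideal.sub_mem _ (Ideal.mul_mem_right _ _ (Ideal.subset_span (Or.inr rfl))) (Ideal.subset_span (Or.inl ⟨j, rfl⟩))
      rwa [Set.range_comp, ← Ideal.map_span, ← hI] at hle
  have hMle : I.map C ≤ M := hsum ▸ sup_le (fun x hx => by
      show pres a hI x ∈ q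
      rw [RingHom.mem_ker.1 hx]; exact q.zero_mem)
    ((Ideal.span_singleton_le_iff_mem _).2 (show pres a hI (C (a 0)) ∈ q by rw [pres_C]; exact hq))
  let Q := M.map φ
  haveI : Q.IsPrime := Ideal.map_isPrime_of_surjective hφ (hkφ.le.trans hMle)
  have hM : M = Q.comap φ := by
    rw [Ideal.comap_map_of_surjective' φ hφ]
    exact (sup_eq_left.2 (hkφ.le.trans hMle)).symm
  let ψ := Localization.localRingHom M q (pres a hI) rfl
  have hψ : Function.Surjective ψ := RingHom.surjective_localRingHom_of_surjective _ hsurj q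
  have hkψ : RingHom.ker ψ = (RingHom.ker (pres a hI)).map (algebraMap P (Localization.AtPrime M)) :=
    TorCI.ker_localRingHom (pres a hI) hsurj q
  let χ := (Ideal.Quotient.mk (Ideal.span {f})).comp ψ
  have hχ : Function.Surjective χ := Ideal.Quotient.mk_surjective.comp hψ
  have hkχ : RingHom.ker χ = (I.map C).map (algebraMap P (Localization.AtPrime M)) := by
    rw [← hsum, Ideal.map_sup, ← hkψ, ← RingHom.comap_ker, Ideal.mk_ker, Ideal.map_span, Set.image_singleton]
    have : f = ψ (algebraMap P (Localization.AtPrime M) (C (a 0))) := by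
      rw [Localization.localRingHom_to_map, pres_C]
    rw [this, ← Set.image_singleton, ← Ideal.map_span, Ideal.comap_map_of_surjective' ψ hψ, sup_comm]
  let ω := (Localization.localRingHom (Q.comap φ) Q φ rfl)
  haveI : IsRegularLocalRing (Localization.AtPrime Q) := IsRegularRing.isRegularLocalRing_localization Q
  have key : ∀ (N : Ideal P) [N.IsPrime], N = Q.comap φ →
      IsRegularLocalRing (Localization.AtPrime N ⧸ (I.map C).map (algebraMap P (Localization.AtPrime N))) := by
    rintro N _ rfl
    refine IsRegularLocalRing.of_ringEquiv ?_ (R := Localization.AtPrime Q)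
    exact ((Ideal.quotEquivOfEq ((TorCI.ker_localRingHom φ hφ Q).trans (by rw [hkφ])).symm).trans
      (RingHom.quotientKerEquivOfSurjective (RingHom.surjective_localRingHom_of_surjective _ hφ Q))).symm
  haveI := key M hM
  haveI : IsRegularLocalRing (Localization.AtPrime q ⧸ Ideal.span {f}) := IsRegularLocalRing.of_ringEquiv
    ((Ideal.quotEquivOfEq hkχ.symm).trans (RingHom.quotientKerEquivOfSurjective hχ))
  refine SerreReg.isRegularLocalRing_of_quot (x := f) ?_ ?_
  · exact (IsLocalization.AtPrime.to_map_mem_maximal_iff (Localization.AtPrime q) q _).2 hq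
  · haveI : Module.Flat B (Localization.AtPrime q) := IsLocalization.flat _ q.primeCompl
    refine IsSMulRegular.of_flat (S := Localization.AtPrime q) ?_
    exact (isRegular_iff_mem_nonZeroDivisors.2 (fromA_mem_nonZeroDivisors I (a 0) (mem_ideal a hI 0))).left.isSMulRegular

theorem regular_chart' {n : ℕ} (a : Fin (n + 1) → A) (hI : I = Ideal.span (Set.range a)) (ha : Acyclic a)
    (j : Fin (n + 1))
    (q : Ideal (HomogeneousLocalization.Away (Rees.deg (reesAlgebra I)) (tt I (a j) (mem_ideal a hI j))))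
    [q.IsPrime] (hq : ∀ x ∈ I, fromA I (a j) (mem_ideal a hI j) x ∈ q) :
    IsRegularLocalRing (Localization.AtPrime q) := by
  have key : ∀ (b : A) (hb : b ∈ I), b = (a ∘ Equiv.swap 0 j) 0 →
      ∀ (q : Ideal (HomogeneousLocalization.Away (Rees.deg (reesAlgebra I)) (tt I b hb))) [q.IsPrime],
        fromA I b hb b ∈ q → IsRegularLocalRing (Localization.AtPrime q) := by
    rintro b hb rfl q hq hbq
    exact regular_chart (a ∘ Equiv.swap 0 j)
      (by rw [hI, Set.range_comp, Set.range_eq_univ.2 (Equiv.swap 0 j).surjective, Set.image_univ])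
      (KoszulLib.acyclic_comp_equiv _ ha) q hbq
  exact key _ _ (by simp) q (hq _ (mem_ideal a hI j))

theorem regular_structMap {m : ℕ} (a : Fin m → A) (hI : I = Ideal.span (Set.range a)) (ha : Acyclic a)
    (y : Proj (Rees.deg (reesAlgebra I))) (hy : ∀ x ∈ I, x ∈ (structMap I y : PrimeSpectrum A).asIdeal) :
    IsRegularLocalRing ((Proj (Rees.deg (reesAlgebra I))).presheaf.stalk y) := by
  let 𝒰 := (Proj.affineOpenCoverOfIrrelevantLESpan (Rees.deg (reesAlgebra I))
    (fun j : Fin m => tt I (a j) (hI ▸ Ideal.subset_span ⟨j, rfl⟩)) (m := fun _ => 1)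
    (fun j => tt_mem I _ _) (fun _ => one_pos) (irrelevant_le_gens a hI)).openCover
  obtain ⟨j, z, rfl⟩ : ∃ (j : Fin m) (z : _), chart I (a j) (hI ▸ Ideal.subset_span ⟨j, rfl⟩) z = y :=
    ⟨_, 𝒰.covers y⟩
  rw [← Scheme.Hom.comp_apply, chart_structMap] at hy
  refine regular_of_openImmersion _ z ?_
  obtain ⟨n, rfl⟩ : ∃ n, m = n + 1 := ⟨m - 1, by have := j.2; omega⟩
  haveI := regular_chart' a hI ha j z.asIdeal fun x hx => hy x hx
  exact IsRegularLocalRing.of_ringEquiv (Spec.stalkIso _ z).symm.commRingCatIsoToRingEquiv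

omit [IsRegularRing (A ⧸ I)] in
theorem regular_spec {A : CommRingCat.{u}} [IsNoetherianRing A] {Y : Scheme.{u}} (b : Y ⟶ Spec A)
    (J : (Spec A).IdealSheafData) (hb : BlowUp.IsBlowUp b J) {m : ℕ} (a : Fin m → A) (ha : Acyclic a)
    (hJ : (J.ideal ⟨⊤, isAffineOpen_top _⟩).map (Scheme.ΓSpecIso A).hom.hom = Ideal.span (Set.range a))
    (hquot : IsRegularRing (A ⧸ Ideal.span (Set.range a)))
    (y : Y) (hy : ∀ x ∈ Ideal.span (Set.range a), x ∈ (b y : PrimeSpectrum A).asIdeal) :
    IsRegularLocalRing (Y.presheaf.stalk y) := by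
  let I : Ideal A := (J.ideal ⟨⊤, isAffineOpen_top _⟩).map (Scheme.ΓSpecIso A).hom.hom
  have h : J = sheafOf I := by
    refine (Scheme.IdealSheafData.equivOfIsAffine (X := Spec A)).injective ?_
    refine Eq.trans ?_ ((Scheme.IdealSheafData.equivOfIsAffine (X := Spec A)).apply_symm_apply _).symm
    rw [Ideal.map_map, ← CommRingCat.hom_comp]
    erw [Iso.hom_inv_id]
    rw [CommRingCat.hom_id, Ideal.map_id]
    rfl
  have hI : I = Ideal.span (Set.range a) := hJ
  haveI : IsRegularRing (A ⧸ I) := by rw [hI]; exact hquot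
  have h0 := isBlowUp_affine I
  rw [← h] at h0
  obtain ⟨k, hk, -⟩ := h0.2 _ b hb.1
  obtain ⟨l, hl, -⟩ := hb.2 _ (structMap I) h0.1
  have h1 : k ≫ l = 𝟙 _ := (hb.2 _ b hb.1).unique (by rw [Category.assoc, hl, hk]) (Category.id_comp _)
  have h2 : l ≫ k = 𝟙 _ := (h0.2 _ _ h0.1).unique (by rw [Category.assoc, hk, hl]) (Category.id_comp _)
  haveI : IsIso k := ⟨l, h1, h2⟩
  refine regular_of_openImmersion' k y (regular_structMap a hI ha (k y) fun x hx => ?_)
  rw [← Scheme.Hom.comp_apply, hk]
  exact hy x (hI ▸ hx)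

/-- Blow-ups of regular schemes in regular closed subschemes are regular. -/
theorem regular_of_isBlowUp {X Y T : Scheme.{u}} [IsLocallyNoetherian X] (i : Y ⟶ X) [IsClosedImmersion i]
    (hX : ∀ x : X, IsRegularLocalRing (X.presheaf.stalk x)) (hY : ∀ y : Y, IsRegularLocalRing (Y.presheaf.stalk y))
    {π : T ⟶ X} (hπ : BlowUp.IsBlowUp π i.ker) (t : T) : IsRegularLocalRing (T.presheaf.stalk t) := by
  by_cases ht : π t ∈ i.ker.support
  · haveI : IsLocallyNoetherian Y := LocallyOfFiniteType.isLocallyNoetherian i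
    have hi : Mor2.IsRegularClosedImmersion i :=
      RegMor2.isRegularImmersion_iff.1 (S8855.result i hX hY)
    obtain ⟨U, m, a, hxU, ha, hIU⟩ := exists_acyclic_of_regularImmersion hi (π t)
    haveI : IsNoetherianRing Γ(X, U.1) := IsLocallyNoetherian.component_noetherian U
    haveI : IsRegularRing (Γ(X, U.1) ⧸ Ideal.span (Set.range a)) := by
      haveI := isRegularRing_sections hY ⟨i ⁻¹ᵁ U.1, U.2.preimage i⟩
      rw [← hIU, Scheme.Hom.ker_apply]
      exact IsRegularRing.of_ringEquiv
        (RingHom.quotientKerEquivOfSurjective (i.app_surjective U.1 U.2)).symm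
    obtain ⟨w, hw⟩ : ∃ w, U.2.fromSpec w = π t := by
      have : π t ∈ Set.range U.2.fromSpec := by rw [U.2.range_fromSpec]; exact hxU
      exact this
    obtain ⟨z, hzw, hz⟩ := Scheme.Pullback.exists_preimage_pullback (f := U.2.fromSpec) (g := π) w t hw
    rw [← hz]
    refine regular_of_openImmersion _ z (regular_spec _ _ (BlowUpLib.isBlowUp_flat U.2.fromSpec hπ) a ha
      ((map_ideal_fromSpec i.ker U).trans hIU) inferInstance z fun x hx => ?_)
    rw [hzw]
    have h1 := (Scheme.IdealSheafData.mem_support_iff_of_mem (U := U) hxU).1 ht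
    rw [← hIU] at hx
    by_contra hxw
    have h2 : U.2.fromSpec w ∈ X.basicOpen x := by
      show w ∈ U.2.fromSpec ⁻¹ᵁ X.basicOpen x
      rw [U.2.fromSpec_preimage_basicOpen]
      exact hxw
    exact (X.mem_zeroLocus_iff _ _).1 h1 x hx (hw ▸ h2)
  · haveI := Groth.Agent.S1682.result i.ker π hπ
    have h1 := regular_of_openImmersion' (π ∣_ i.ker.support.compl) ⟨t, ht⟩
      (regular_of_openImmersion' (Scheme.Opens.ι i.ker.support.compl) _ (hX _))
    exact regular_of_openImmersion (Scheme.Opens.ι (π ⁻¹ᵁ i.ker.support.compl)) _ h1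

end Groth.Agent.RegBlow
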